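import Groth.Agent.CohDerAcyc.Leray

/-!
# When an object is right acyclic in the derived category
-/

set_option autoImplicit false
set_option linter.style.haveILetI false
set_option linter.unusedSectionVars false

universe w w' v v' u u'

open CategoryTheory CategoryTheory.Limits

noncomputable section

namespace Groth.Agent.CohDerAcyc

variable {A : Type u} [Category.{v} A] [Abelian A] [HasDerivedCategory.{w} A]
  {B : Type u'} [Category.{v'} B] [Abelian B] [HasDerivedCategory.{w'} B] (F : A ⥤ B) [F.Additive]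

theorem isIso_Qh_map_iff_quasiIso {K L : CochainComplex.Plus A} (i : K ⟶ L) :
    IsIso (DerivedCategory.Plus.Qh.map ((HomotopyCategory.Plus.quotient A).map i)) ↔
      QuasiIso i.hom := by
  refine ⟨fun h => ?_, isIso_Qh_map_of_quasiIso i⟩
  have h' : IsIso (DerivedCategory.Qh.map
      ((HomotopyCategory.quotient A (ComplexShape.up ℤ)).map i.hom)) :=
    inferInstanceAs (IsIso (DerivedCategory.Plus.ι.map
      (DerivedCategory.Plus.Qh.map ((HomotopyCategory.Plus.quotient A).map i))))
  rw [DerivedCategory.isIso_Qh_map_iff, HomotopyCategory.quotient_map_mem_quasiIso_iff] at h'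
  exact h'

variable [EnoughInjectives A]

/-- The single complex as a bounded below complex. -/
abbrev plusSingle (X : A) : CochainComplex.Plus A :=
  ⟨(CochainComplex.singleFunctor A 0).obj X, 0, inferInstance⟩

/-- An injective resolution as a morphism of bounded below complexes. -/
abbrev plusι {X : A} (R : InjectiveResolution X) :
    plusSingle X ⟶ (InjectiveObject.ι A).mapCochainComplexPlus.obj (SpSeqLib.resolutionLift R) :=
  ObjectProperty.homMk R.ι'

theorem isIso_unit_single_iff_quasiIso (X : A) (R : InjectiveResolution X) :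
    IsIso (F.rightDerivedFunctorPlusUnit.app ((HomotopyCategory.Plus.singleFunctor A 0).obj X)) ↔
      QuasiIso ((F.mapHomologicalComplex (ComplexShape.up ℤ)).map R.ι') := by
  let qK := (HomotopyCategory.Plus.quotient A).obj (plusSingle X)
  show IsIso (F.rightDerivedFunctorPlusUnit.app qK) ↔ _
  have h2 : IsIso (F.rightDerivedFunctorPlusUnit.app ((HomotopyCategory.Plus.quotient A).obj
      ((InjectiveObject.ι A).mapCochainComplexPlus.obj (SpSeqLib.resolutionLift R)))) :=
    inferInstanceAs (IsIso (F.rightDerivedFunctorPlusUnit.app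
      ((InjectiveObject.ι A).mapHomotopyCategoryPlus.obj
        ((HomotopyCategory.Plus.quotient (InjectiveObject A)).obj (SpSeqLib.resolutionLift R)))))
  have hq : QuasiIso (plusι R).hom := inferInstanceAs (QuasiIso R.ι')
  have h3 : IsIso ((DerivedCategory.Plus.Qh ⋙ F.rightDerivedFunctorPlus).map
      ((HomotopyCategory.Plus.quotient A).map (plusι R))) :=
    @Functor.map_isIso _ _ _ _ _ _ F.rightDerivedFunctorPlus _ (isIso_Qh_map_of_quasiIso _ hq)
  have nat := F.rightDerivedFunctorPlusUnit.naturality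
    ((HomotopyCategory.Plus.quotient A).map (plusι R))
  have e : IsIso ((F.mapHomotopyCategoryPlus ⋙ DerivedCategory.Plus.Qh).map
      ((HomotopyCategory.Plus.quotient A).map (plusι R))) ↔
      QuasiIso ((F.mapHomologicalComplex (ComplexShape.up ℤ)).map R.ι') :=
    isIso_Qh_map_iff_quasiIso (F.mapCochainComplexPlus.map (plusι R))
  rw [← e]
  constructor
  · intro h
    have hc : IsIso ((F.mapHomotopyCategoryPlus ⋙ DerivedCategory.Plus.Qh).map
        ((HomotopyCategory.Plus.quotient A).map (plusι R)) ≫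
        F.rightDerivedFunctorPlusUnit.app _) := by
      rw [nat]; exact @IsIso.comp_isIso _ _ _ _ _ _ _ h h3
    exact @IsIso.of_isIso_comp_right _ _ _ _ _ _ _ h2 hc
  · intro h
    have hc : IsIso (F.rightDerivedFunctorPlusUnit.app qK ≫
        (DerivedCategory.Plus.Qh ⋙ F.rightDerivedFunctorPlus).map
          ((HomotopyCategory.Plus.quotient A).map (plusι R))) := by
      rw [← nat]; exact @IsIso.comp_isIso _ _ _ _ _ _ _ h h2
    exact @IsIso.of_isIso_comp_right _ _ _ _ _ _ _ h3 hc

omit [EnoughInjectives A] [HasDerivedCategory.{w} A] [HasDerivedCategory.{w'} B] in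
theorem isZero_homology_mapSingle (X : A) (n : ℤ) (hn : n ≠ 0) :
    IsZero (((F.mapHomologicalComplex (ComplexShape.up ℤ)).obj
      ((CochainComplex.singleFunctor A 0).obj X)).homology n) := by
  rw [← HomologicalComplex.exactAt_iff_isZero_homology]
  exact ShortComplex.exact_of_isZero_X₂ _
    (F.map_isZero (HomologicalComplex.isZero_single_obj_X (ComplexShape.up ℤ) 0 X n hn))

omit [HasDerivedCategory.{w} A] [HasDerivedCategory.{w'} B] in
theorem nonempty_homology_resolution (X : A) (R : InjectiveResolution X) (p : ℕ) :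
    Nonempty (((F.mapHomologicalComplex (ComplexShape.up ℤ)).obj R.cochainComplex).homology (p : ℤ) ≅
      (F.rightDerived p).obj X) :=
  ⟨(HomologicalComplex.homologyFunctor B _ (p : ℤ)).mapIso
      (SpSeqLib.mapExtendIso F R.cocomplex ComplexShape.embeddingUpNat) ≪≫
    ((F.mapHomologicalComplex _).obj R.cocomplex).extendHomologyIso ComplexShape.embeddingUpNat
      (j := p) rfl ≪≫ (R.isoRightDerivedObj F p).symm⟩

omit [HasDerivedCategory.{w} A] [HasDerivedCategory.{w'} B] [EnoughInjectives A] in
theorem quasiIsoAt_zero_iff (X : A) (R : InjectiveResolution X) :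
    QuasiIsoAt ((F.mapHomologicalComplex (ComplexShape.up ℤ)).map R.ι') 0 ↔
      IsIso (R.toRightDerivedZero' F) := by
  rw [quasiIsoAt_iff' _ (-1) 0 1 (by simp) (by simp)]
  rw [ShortComplex.quasiIso_iff_of_zeros]
  rotate_left
  · exact (F.map_isZero (HomologicalComplex.isZero_single_obj_X (ComplexShape.up ℤ) 0 X (-1)
      (by omega))).eq_of_src _ _
  · exact (F.map_isZero (HomologicalComplex.isZero_single_obj_X (ComplexShape.up ℤ) 0 X 1
      (by omega))).eq_of_tgt _ _
  · exact (F.map_isZero (CochainComplex.isZero_of_isStrictlyGE R.cochainComplex 0 (-1)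
      (by omega))).eq_of_src _ _
  refine Iff.trans ?_ (CochainComplex.isIso_liftCycles_iff _ _ _).symm
  let σ : ((CochainComplex.singleFunctor A 0).obj X).X 0 ≅ X :=
    HomologicalComplex.singleObjXSelf (ComplexShape.up ℤ) 0 X
  let a := F.mapIso σ
  let b := F.mapIso (R.cochainComplexXIso 0 0 rfl)
  let c := F.mapIso (R.cochainComplexXIso 1 1 rfl)
  let ρ : X ⟶ R.cocomplex.X 0 := R.ι.f 0
  have h1 : F.map (R.ι'.f 0) ≫ b.hom = a.hom ≫ F.map ρ := by
    refine (F.map_comp _ _).symm.trans ((congrArg (fun t => F.map t) ?_).trans (F.map_comp _ _))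
    have e : R.ι'.f 0 = σ.hom ≫ ρ ≫
        (R.cochainComplexXIso 0 0 rfl).inv := R.ι'_f_zero
    exact (congrArg (· ≫ (R.cochainComplexXIso 0 0 rfl).hom) e).trans (by simp [Category.assoc])
  have h2 : F.map (R.cochainComplex.d 0 1) ≫ c.hom = b.hom ≫ F.map (R.cocomplex.d 0 1) := by
    refine (F.map_comp _ _).symm.trans ((congrArg (fun t => F.map t) ?_).trans (F.map_comp _ _))
    rw [InjectiveResolution.cochainComplex_d R 0 1 0 1 rfl rfl, Category.assoc, Category.assoc,
      Iso.inv_hom_id, Category.comp_id]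
  refine and_congr (ShortComplex.exact_iff_of_iso (ShortComplex.isoMk a b c h1.symm h2.symm)) ?_
  constructor
  · intro h
    have e : F.map ρ = a.inv ≫ F.map (R.ι'.f 0) ≫ b.hom :=
      (a.inv_hom_id_assoc _).symm.trans (congrArg (a.inv ≫ ·) h1.symm)
    show Mono (F.map ρ)
    rw [e]
    exact @mono_comp _ _ _ _ _ _ inferInstance _ (@mono_comp _ _ _ _ _ _ h _ inferInstance)
  · intro h
    have e : F.map (R.ι'.f 0) = a.hom ≫ F.map ρ ≫ b.inv := by
      rw [← Category.assoc, ← h1, Category.assoc, Iso.hom_inv_id]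
      exact (Category.comp_id _).symm
    show Mono (F.map (R.ι'.f 0))
    rw [e]
    exact @mono_comp _ _ _ _ _ _ inferInstance _ (@mono_comp _ _ _ _ _ _ h _ inferInstance)

omit [HasDerivedCategory.{w} A] [HasDerivedCategory.{w'} B] in
theorem isIso_toRightDerivedZero_app_iff (X : A) (R : InjectiveResolution X) :
    IsIso (F.toRightDerivedZero.app X) ↔ IsIso (R.toRightDerivedZero' F) := by
  rw [R.toRightDerivedZero_eq F]
  exact ⟨fun h => @IsIso.of_isIso_comp_right _ _ _ _ _ _ _ inferInstance h,
    fun h => @IsIso.comp_isIso _ _ _ _ _ _ _ h inferInstance⟩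

theorem isIso_unit_single_iff (X : A) :
    IsIso (F.rightDerivedFunctorPlusUnit.app ((HomotopyCategory.Plus.singleFunctor A 0).obj X)) ↔
      (IsIso (F.toRightDerivedZero.app X) ∧ ∀ i : ℕ, 0 < i → IsZero ((F.rightDerived i).obj X)) := by
  let R := InjectiveResolution.of X
  rw [isIso_unit_single_iff_quasiIso F X R, isIso_toRightDerivedZero_app_iff F X R,
    ← quasiIsoAt_zero_iff F X R, quasiIso_iff]
  constructor
  · intro h
    refine ⟨h 0, fun i hi => ?_⟩
    obtain ⟨e⟩ := nonempty_homology_resolution F X R i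
    have := (quasiIsoAt_iff_isIso_homologyMap _ (i : ℤ)).1 (h i)
    exact (((isZero_homology_mapSingle F X (i : ℤ) (by omega)).of_iso
      (@asIso _ _ _ _ _ this).symm)).of_iso e.symm
  · rintro ⟨h0, hi⟩ n
    rw [quasiIsoAt_iff_isIso_homologyMap]
    rcases lt_trichotomy n 0 with hn | rfl | hn
    · haveI : CochainComplex.IsStrictlyGE
          ((F.mapHomologicalComplex (ComplexShape.up ℤ)).obj R.cochainComplex) 0 := inferInstance
      exact ⟨0, (isZero_homology_mapSingle F X n hn.ne).eq_of_src _ _, IsZero.eq_of_src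
        ((HomologicalComplex.exactAt_iff_isZero_homology _ _).1 (ShortComplex.exact_of_isZero_X₂ _
          (CochainComplex.isZero_of_isStrictlyGE _ 0 n hn))) _ _⟩
    · exact (quasiIsoAt_iff_isIso_homologyMap _ _).1 h0
    · obtain ⟨i, rfl⟩ := Int.eq_ofNat_of_zero_le hn.le
      obtain ⟨e⟩ := nonempty_homology_resolution F X R i
      exact ⟨0, (isZero_homology_mapSingle F X (i : ℤ) hn.ne').eq_of_src _ _,
        ((hi i (by exact_mod_cast hn)).of_iso e).eq_of_src _ _⟩

end Groth.Agent.CohDerAcyc
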