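import Groth.Agent.SpSeqLib.Acyclic

/-!
# Right derived functors preserve lower bounds
-/

set_option autoImplicit false
set_option linter.style.haveILetI false

universe w w' v v' u u'

open CategoryTheory CategoryTheory.Limits

noncomputable section

namespace Groth.Agent.CohDerAcyc

variable {A : Type u} [Category.{v} A] [Abelian A] [HasDerivedCategory.{w} A] [EnoughInjectives A]
  {B : Type u'} [Category.{v'} B] [Abelian B] [HasDerivedCategory.{w'} B] (F : A ⥤ B) [F.Additive]

theorem isGE_rightDerivedFunctorPlus (K : DerivedCategory.Plus A) (a : ℤ) [K.IsGE a] :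
    (F.rightDerivedFunctorPlus.obj K).IsGE a := by
  obtain ⟨L, hL, ⟨e⟩⟩ := DerivedCategory.Plus.exists_injective_nonempty_iso K a
  haveI := hL
  let M := F.mapCochainComplexPlus.obj ((InjectiveObject.ι A).mapCochainComplexPlus.obj L)
  haveI : M.obj.IsStrictlyGE a := inferInstanceAs (CochainComplex.IsStrictlyGE
    ((F.mapHomologicalComplex (ComplexShape.up ℤ)).obj
      (((InjectiveObject.ι A).mapHomologicalComplex (ComplexShape.up ℤ)).obj L.obj)) a)
  haveI hu : IsIso (F.rightDerivedFunctorPlusUnit.app ((HomotopyCategory.Plus.quotient A).obj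
      ((InjectiveObject.ι A).mapCochainComplexPlus.obj L))) :=
    inferInstanceAs (IsIso (F.rightDerivedFunctorPlusUnit.app
      ((InjectiveObject.ι A).mapHomotopyCategoryPlus.obj
        ((HomotopyCategory.Plus.quotient (InjectiveObject A)).obj L))))
  let u : (DerivedCategory.Plus.Q.obj M) ≅ F.rightDerivedFunctorPlus.obj K :=
    @asIso _ _ _ _ (F.rightDerivedFunctorPlusUnit.app ((HomotopyCategory.Plus.quotient A).obj
      ((InjectiveObject.ι A).mapCochainComplexPlus.obj L))) hu ≪≫ F.rightDerivedFunctorPlus.mapIso e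
  have hM : (DerivedCategory.Plus.ι.obj (DerivedCategory.Plus.Q.obj M)).IsGE a := by
    haveI : (DerivedCategory.Q.obj M.obj).IsGE a := inferInstance
    exact DerivedCategory.TStructure.t.isGE_of_iso
      ((DerivedCategory.quotientCompQhIso B).symm.app M.obj) a
  haveI := hM
  exact (DerivedCategory.Plus.isGE_ι_obj_iff _ a).1
    (DerivedCategory.TStructure.t.isGE_of_iso (DerivedCategory.Plus.ι.mapIso u) a)

end Groth.Agent.CohDerAcyc
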