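import Groth.Agent.SpSeqLib.Acyclic

/-!
# Leray's acyclicity lemma
-/

set_option autoImplicit false
set_option linter.style.haveILetI false

universe w w' v v' u u'

open CategoryTheory CategoryTheory.Limits

noncomputable section

namespace Groth.Agent.CohDerAcyc

section Acyclic

variable {A : Type u} [Category.{v} A] [Abelian A] [HasDerivedCategory.{w} A]

theorem isIso_Qh_map_of_quasiIso {K L : CochainComplex.Plus A} (i : K ⟶ L) (hi : QuasiIso i.hom) :
    IsIso (DerivedCategory.Plus.Qh.map ((HomotopyCategory.Plus.quotient A).map i)) := by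
  have h : IsIso (DerivedCategory.Plus.ι.map
      (DerivedCategory.Plus.Qh.map ((HomotopyCategory.Plus.quotient A).map i))) := by
    change IsIso (DerivedCategory.Qh.map
      ((HomotopyCategory.quotient A (ComplexShape.up ℤ)).map i.hom))
    rw [DerivedCategory.isIso_Qh_map_iff, HomotopyCategory.quotient_map_mem_quasiIso_iff]
    exact hi
  exact @isIso_of_fully_faithful _ _ _ _ DerivedCategory.Plus.ι _ _ _ _ _ h

variable [EnoughInjectives A] {B : Type u'} [Category.{v'} B] [Abelian B]
  [HasDerivedCategory.{w'} B] (F : A ⥤ B) [F.Additive] [PreservesFiniteLimits F]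

theorem isIso_unit_of_acyclic (K : CochainComplex.Plus A)
    (hK : ∀ (m : ℤ) (i : ℕ), 0 < i → IsZero ((F.rightDerived i).obj (K.obj.X m))) :
    IsIso (F.rightDerivedFunctorPlusUnit.app ((HomotopyCategory.Plus.quotient A).obj K)) := by
  obtain ⟨n, hn⟩ := K.property
  haveI := hn
  obtain ⟨L, hL, i, hi⟩ := CochainComplex.Plus.exists_quasiIso_injective K n
  haveI hqi : QuasiIso i.hom := hi
  let L' := (InjectiveObject.ι A).mapCochainComplexPlus.obj L
  haveI : L'.obj.IsStrictlyGE n := by
    haveI := hL
    exact inferInstanceAs (CochainComplex.IsStrictlyGE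
      (((InjectiveObject.ι A).mapHomologicalComplex (ComplexShape.up ℤ)).obj L.obj) n)
  haveI : ∀ m, Injective (L'.obj.X m) := fun m => (L.obj.X m).property
  have hF : QuasiIso ((F.mapHomologicalComplex (ComplexShape.up ℤ)).map i.hom) :=
    SpSeqLib.quasiIso_map F i.hom n (fun m p => hK m (p + 1) p.succ_pos)
      (fun m => SpSeqLib.isAcyclicFor_of_injective F _)
  have h1 : IsIso ((F.mapHomotopyCategoryPlus ⋙ DerivedCategory.Plus.Qh).map
      ((HomotopyCategory.Plus.quotient A).map i)) :=
    isIso_Qh_map_of_quasiIso (F.mapCochainComplexPlus.map i) hF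
  have h2 : IsIso (F.rightDerivedFunctorPlusUnit.app ((HomotopyCategory.Plus.quotient A).obj L')) :=
    inferInstanceAs (IsIso (F.rightDerivedFunctorPlusUnit.app
      ((HomotopyCategory.Plus.quotient A).obj ((InjectiveObject.ι A).mapCochainComplexPlus.obj L))))
  have h3 : IsIso ((DerivedCategory.Plus.Qh ⋙ F.rightDerivedFunctorPlus).map
      ((HomotopyCategory.Plus.quotient A).map i)) :=
    @Functor.map_isIso _ _ _ _ _ _ F.rightDerivedFunctorPlus _ (isIso_Qh_map_of_quasiIso i hqi)
  have nat := F.rightDerivedFunctorPlusUnit.naturality ((HomotopyCategory.Plus.quotient A).map i)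
  have hc : IsIso (F.rightDerivedFunctorPlusUnit.app ((HomotopyCategory.Plus.quotient A).obj K) ≫
      (DerivedCategory.Plus.Qh ⋙ F.rightDerivedFunctorPlus).map
        ((HomotopyCategory.Plus.quotient A).map i)) := by
    rw [← nat]
    exact @IsIso.comp_isIso _ _ _ _ _ _ _ h1 h2
  exact @IsIso.of_isIso_comp_right _ _ _ _ _ _ _ h3 hc

end Acyclic

end Groth.Agent.CohDerAcyc
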