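import Groth.Agent.SpSeqLib.Acyclic

/-!
# Acyclic objects in short exact sequences
-/

set_option autoImplicit false
set_option linter.style.haveILetI false
set_option linter.unusedSectionVars false

universe v v' u u'

open CategoryTheory CategoryTheory.Limits CategoryTheory.Pretriangulated

noncomputable section

namespace Groth.Agent.CohDerAcyc

open SpSeqLib

attribute [local instance] HasDerivedCategory.standard

variable {A : Type u} [Category.{v} A] [Abelian A] [EnoughInjectives A]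
  {B : Type u'} [Category.{v'} B] [Abelian B] (S : A ⥤ B) [S.Additive]

theorem isAcyclicFor_extension {T₀ : ShortComplex A} (hT₀ : T₀.ShortExact)
    (h₁ : IsAcyclicFor S T₀.X₁) (h₃ : IsAcyclicFor S T₀.X₃) : IsAcyclicFor S T₀.X₂ := by
  intro p
  let T : Triangle (DerivedCategory.Plus A) := Triangle.mk
    ((DerivedCategory.Plus.singleFunctor A 0).map T₀.f)
    ((DerivedCategory.Plus.singleFunctor A 0).map T₀.g)
    (ObjectProperty.homMk (hT₀.singleδ ≫ ((DerivedCategory.Plus.ι (C := A)).commShiftIso (1 : ℤ)).inv.app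
      ((DerivedCategory.Plus.singleFunctor A 0).obj T₀.X₁)))
  have hT : T ∈ distTriang (DerivedCategory.Plus A) := by
    rw [← (DerivedCategory.Plus.ι (C := A)).map_distinguished_iff]
    refine isomorphic_distinguished _ hT₀.singleTriangle_distinguished _
      (Triangle.isoMk _ _ (Iso.refl _) (Iso.refl _) (Iso.refl _)
        ((Category.comp_id _).trans (Category.id_comp _).symm)
        ((Category.comp_id _).trans (Category.id_comp _).symm) ?_)
    refine ((congrArg (_ ≫ ·) ((shiftFunctor (DerivedCategory A) (1 : ℤ)).map_id _)).trans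
      (Category.comp_id _)).trans (Eq.trans ?_ (Category.id_comp _).symm)
    exact (Category.assoc _ _ _).trans ((congrArg (hT₀.singleδ ≫ ·)
      (((DerivedCategory.Plus.ι (C := A)).commShiftIso (1 : ℤ)).inv_hom_id_app
        ((DerivedCategory.Plus.singleFunctor A 0).obj T₀.X₁))).trans (Category.comp_id _))
  obtain ⟨e₁⟩ := nonempty_rG_single_iso S T₀.X₁ (p + 1)
  obtain ⟨e₂⟩ := nonempty_rG_single_iso S T₀.X₂ (p + 1)
  obtain ⟨e₃⟩ := nonempty_rG_single_iso S T₀.X₃ (p + 1)
  refine IsZero.of_iso ?_ e₂.symm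
  exact ((rG S).homologySequence_exact₂ T hT ((p + 1 : ℕ) : ℤ)).isZero_of_both_zeros
    (((h₁ p).of_iso e₁).eq_of_src _ _) (((h₃ p).of_iso e₃).eq_of_tgt _ _)

variable [PreservesFiniteLimits S]

/-- The hypothesis of the kernel criterion. -/
def KerClass (X : A) : Prop :=
  ∃ (X₂ X₃ : A) (f : X ⟶ X₂) (g : X₂ ⟶ X₃) (w : f ≫ g = 0), (ShortComplex.mk f g w).ShortExact ∧
    IsAcyclicFor S X₂ ∧ IsAcyclicFor S X₃ ∧ Epi (S.map g)

theorem kerClass_step {T : ShortComplex A} (hT : T.ShortExact) (hI : Injective T.X₂)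
    (h : KerClass S T.X₁) : IsAcyclicFor S T.X₃ ∧ Epi (S.map T.g) := by
  obtain ⟨X₂, X₃, f, g, w, hS, h₂, h₃, hg⟩ := h
  haveI : Mono f := hS.mono_f
  haveI : Epi g := hS.epi_g
  haveI := hT.mono_f
  haveI := hT.epi_g
  haveI := hI
  let φ : X₂ ⟶ T.X₂ := Injective.factorThru T.f f
  have hφ : f ≫ φ = T.f := Injective.comp_factorThru _ _
  have h0 : f ≫ φ ≫ T.g = 0 := by rw [← Category.assoc, hφ, T.zero]
  let ψ : X₃ ⟶ T.X₃ := hS.exact.desc (φ ≫ T.g) h0
  have hψ : g ≫ ψ = φ ≫ T.g := hS.exact.g_desc _ h0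
  let l : X₂ ⟶ T.X₂ ⊞ X₃ := biprod.lift φ g
  let d : T.X₂ ⊞ X₃ ⟶ T.X₃ := biprod.desc T.g (-ψ)
  have hld : l ≫ d = 0 := by
    simp only [l, d, biprod.lift_desc, Preadditive.comp_neg, hψ, add_neg_cancel]
  have hU : (ShortComplex.mk l d hld).ShortExact :=
    { exact := by
        rw [ShortComplex.exact_iff_exact_up_to_refinements]
        intro W x hx
        dsimp at x hx
        have hx' : (x ≫ biprod.fst) ≫ T.g = (x ≫ biprod.snd) ≫ ψ := by
          have e : x ≫ d = (x ≫ biprod.fst) ≫ T.g - (x ≫ biprod.snd) ≫ ψ := by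
            simp only [d, Category.assoc, ← Preadditive.comp_sub]
            congr 1
            apply biprod.hom_ext' <;> simp
          exact sub_eq_zero.1 (e.symm.trans hx)
        obtain ⟨W₁, p₁, _, y, hy⟩ := surjective_up_to_refinements_of_epi g (x ≫ biprod.snd)
        have h1 : (p₁ ≫ x ≫ biprod.fst - y ≫ φ) ≫ T.g = 0 := by
          rw [Preadditive.sub_comp, Category.assoc p₁, hx', Category.assoc y, ← hψ,
            ← Category.assoc y, ← hy, sub_eq_zero]
          simp only [Category.assoc]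
        obtain ⟨W₂, p₂, _, z, hz⟩ := hT.exact.exact_up_to_refinements _ h1
        refine ⟨W₂, p₂ ≫ p₁, epi_comp _ _, p₂ ≫ y + z ≫ f, ?_⟩
        dsimp
        apply biprod.hom_ext
        · simp only [l, Preadditive.add_comp, Category.assoc, biprod.lift_fst, hφ, ← hz,
            Preadditive.comp_sub]
          abel
        · simp only [l, Preadditive.add_comp, Category.assoc, biprod.lift_snd, ← hy, w, comp_zero,
            add_zero]
      mono_f := by
        refine (Preadditive.mono_iff_cancel_zero l).2 fun {W} x hx => ?_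
        have hxg : x ≫ g = 0 := by
          simpa [l] using hx =≫ (biprod.snd : T.X₂ ⊞ X₃ ⟶ X₃)
        have hxφ : x ≫ φ = 0 := by
          simpa [l] using hx =≫ (biprod.fst : T.X₂ ⊞ X₃ ⟶ T.X₂)
        have h1 : hS.exact.lift x hxg ≫ T.f = 0 := by
          rw [← hφ, ← Category.assoc]
          exact (congrArg (· ≫ φ) (hS.exact.lift_f x hxg)).trans hxφ
        exact (hS.exact.lift_f x hxg).symm.trans (by rw [zero_of_comp_mono _ h1, zero_comp])
      epi_g := by
        haveI : Epi (biprod.inl ≫ d) := by simp only [d, biprod.inl_desc]; infer_instance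
        exact epi_of_epi biprod.inl d }
  have hP : IsAcyclicFor S (T.X₂ ⊞ X₃) := isAcyclicFor_of_biprod S biprod.inl biprod.inr biprod.fst
    biprod.snd biprod.total (isAcyclicFor_of_injective S T.X₂) h₃
  refine ⟨isAcyclicFor_quotient S (T₀ := ShortComplex.mk l d hld) hU hP h₂, ?_⟩
  haveI hd : Epi (S.map d) := epi_map_of_isZero_rightDerived_one S (T₀ := ShortComplex.mk l d hld) hU (h₂ 0)
  rw [Preadditive.epi_iff_cancel_zero]
  intro W u hu
  have h1 : S.map ψ ≫ u = 0 := by
    rw [← cancel_epi (S.map g), ← Category.assoc, ← S.map_comp, hψ, S.map_comp, Category.assoc, hu,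
      comp_zero, comp_zero]
  have h2 : S.map d ≫ u = 0 := by
    have e : d = biprod.fst ≫ T.g - biprod.snd ≫ ψ := by
      apply biprod.hom_ext' <;> simp [d]
    rw [e, S.map_sub, S.map_comp, S.map_comp, Preadditive.sub_comp, Category.assoc, Category.assoc,
      hu, h1, comp_zero, comp_zero, sub_zero]
  exact zero_of_epi_comp _ h2

theorem isAcyclicFor_kerClass {X : A} (hX : KerClass S X) : IsAcyclicFor S X := by
  refine isAcyclicFor_of_class S (KerClass S) (fun {X Y} e h => ?_) (fun T hT hI h => ?_)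
    (fun T hT hI h => (kerClass_step S hT hI h).2) hX
  · obtain ⟨X₂, X₃, f, g, w, hS, h₂, h₃, hg⟩ := h
    exact ⟨X₂, X₃, e.inv ≫ f, g, by rw [Category.assoc, w, comp_zero],
      ShortComplex.shortExact_of_iso (ShortComplex.isoMk e (Iso.refl X₂) (Iso.refl X₃)
        (by simp) (by simp)) hS, h₂, h₃, hg⟩
  · refine ⟨T.X₃, (ShortComplex.mk (𝟙 T.X₃) (cokernel.π (𝟙 T.X₃)) (cokernel.condition _)).X₃, 𝟙 T.X₃,
      cokernel.π (𝟙 T.X₃), cokernel.condition _, ?_, (kerClass_step S hT hI h).1, ?_, ?_⟩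
    · exact ShortComplex.ShortExact.mk' (ShortComplex.exact_of_g_is_cokernel _ (cokernelIsCokernel _))
        inferInstance inferInstance
    · exact isAcyclicFor_of_isZero S ((IsZero.iff_id_eq_zero _).2 (by
        rw [← cancel_epi (cokernel.π (𝟙 T.X₃)), comp_zero, Category.comp_id]
        exact (Category.id_comp _).symm.trans (cokernel.condition _)))
    · have e : cokernel.π (𝟙 T.X₃) = 0 := (Category.id_comp _).symm.trans (cokernel.condition _)
      have hz : IsZero (cokernel (𝟙 T.X₃)) := (IsZero.iff_id_eq_zero _).2 (by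
        rw [← cancel_epi (cokernel.π (𝟙 T.X₃)), Category.comp_id, e, zero_comp])
      exact ⟨fun {W} a b _ => (S.map_isZero hz).eq_of_src a b⟩

theorem shortExact_map {T₀ : ShortComplex A} (hT₀ : T₀.ShortExact) [Epi (S.map T₀.g)] :
    (T₀.map S).ShortExact :=
  haveI : Epi (T₀.map S).g := ‹_›
  haveI := hT₀.mono_f
  ShortComplex.ShortExact.mk'
    ((S.preservesFiniteLimits_iff_forall_exact_map_and_mono.1 inferInstance T₀ hT₀).1)
    (inferInstanceAs (Mono (S.map T₀.f))) inferInstance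

theorem acyclic_shortExact (T₀ : ShortComplex A) (hS : T₀.ShortExact) :
    ((∀ i : ℕ, 0 < i → IsZero ((S.rightDerived i).obj T₀.X₁)) → (∀ i : ℕ, 0 < i → IsZero ((S.rightDerived i).obj T₀.X₃)) →
      (∀ i : ℕ, 0 < i → IsZero ((S.rightDerived i).obj T₀.X₂)) ∧ (T₀.map S).ShortExact) ∧
    ((∀ i : ℕ, 0 < i → IsZero ((S.rightDerived i).obj T₀.X₁)) → (∀ i : ℕ, 0 < i → IsZero ((S.rightDerived i).obj T₀.X₂)) →
      (∀ i : ℕ, 0 < i → IsZero ((S.rightDerived i).obj T₀.X₃)) ∧ (T₀.map S).ShortExact) ∧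
    ((∀ i : ℕ, 0 < i → IsZero ((S.rightDerived i).obj T₀.X₂)) → (∀ i : ℕ, 0 < i → IsZero ((S.rightDerived i).obj T₀.X₃)) →
      Epi (S.map T₀.g) → (∀ i : ℕ, 0 < i → IsZero ((S.rightDerived i).obj T₀.X₁)) ∧ (T₀.map S).ShortExact) := by
  have conv : ∀ {X : A}, IsAcyclicFor S X → ∀ i : ℕ, 0 < i → IsZero ((S.rightDerived i).obj X) :=
    fun h i hi => by obtain ⟨p, rfl⟩ : ∃ p, i = p + 1 := ⟨i - 1, by omega⟩; exact h p
  refine ⟨fun h₁ h₃ => ?_, fun h₁ h₂ => ?_, fun h₂ h₃ hg => ?_⟩
  · haveI := epi_map_of_isZero_rightDerived_one S hS (h₁ 1 one_pos)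
    exact ⟨conv (isAcyclicFor_extension S hS (fun p => h₁ _ p.succ_pos) (fun p => h₃ _ p.succ_pos)),
      shortExact_map S hS⟩
  · haveI := epi_map_of_isZero_rightDerived_one S hS (h₁ 1 one_pos)
    exact ⟨conv (isAcyclicFor_quotient S hS (fun p => h₂ _ p.succ_pos) (fun p => h₁ _ p.succ_pos)),
      shortExact_map S hS⟩
  · exact ⟨conv (isAcyclicFor_kerClass S ⟨_, _, T₀.f, T₀.g, T₀.zero, hS, fun p => h₂ _ p.succ_pos,
      fun p => h₃ _ p.succ_pos, hg⟩), shortExact_map S hS⟩

end Groth.Agent.CohDerAcyc
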